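/-
`p`-groups of rank at most two, `p` odd: an elementary abelian quotient which is irreducible under
the automorphisms has order at most `p ^ 2`.

* `index_le_of_central_omega` : elements of order `p` central gives `|P : K| ≤ |Ω|`
* `index_le_sq_of_rank_two`
-/
import Cfsg.Agent.Lib.PGroup.Basic
import Cfsg.Agent.Lib.PGroup.Power
import Cfsg.Agent.Lib.PGroup.Critical
import Cfsg.Agent.Lib.PGroup.NormalAbelian
import Cfsg.Agent.Lib.Isolated.RankOne
import Cfsg.Agent.Lib.RankTwo.Auto

set_option autoImplicit false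

namespace Cfsg.Agent.RankTwoChief

open scoped commutatorElement

universe u

variable {p : ℕ} [hp : Fact p.Prime]

/-- If the elements of order `p` are central and `x ^ (p * p) = 1`, then commutators with `x` have
order dividing `p`. -/
theorem comm_pow_eq_one {P : Type*} [Group P] [Finite P] (hP : IsPGroup p P) (hp2 : p ≠ 2)
    (hc : ∀ x : P, x ^ p = 1 → x ∈ Subgroup.center P) :
    ∀ (n : ℕ) (H : Subgroup P), Nat.card H ≤ n →
      ∀ x ∈ H, ∀ y ∈ H, (x ^ p) ^ p = 1 → ⁅x, y⁆ ^ p = 1 := by
  intro n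
  induction n with
  | zero => intro H hH; exact absurd hH (Nat.not_le.mpr Nat.card_pos)
  | succ n ih =>
    intro H hH x hx y hy hxp
    rcases eq_top_or_exists_le_coatom (Subgroup.zpowers (⟨x, hx⟩ : H)) with h | ⟨M, hM, hxM⟩
    · have : (⟨y, hy⟩ : H) ∈ Subgroup.zpowers (⟨x, hx⟩ : H) := h ▸ Subgroup.mem_top _
      obtain ⟨i, hi⟩ := Subgroup.mem_zpowers_iff.mp this
      have hi' : x ^ i = y := by simpa using congrArg Subtype.val hi
      rw [← hi', commutatorElement_eq_one_iff_commute.mpr ((Commute.refl x).zpow_right i), one_pow]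
    haveI := PGroup.isCoatom_normal (hP.to_subgroup H) hM
    have hxM' : (⟨x, hx⟩ : H) ∈ M := hxM (Subgroup.mem_zpowers _)
    set x' : P := y * x * y⁻¹ with hx'def
    have hx'M : x' ∈ M.map H.subtype :=
      ⟨_, Subgroup.Normal.conj_mem ‹M.Normal› _ hxM' ⟨y, hy⟩, by simp [hx'def]⟩
    have hxMP : x ∈ M.map H.subtype := ⟨_, hxM', rfl⟩
    have hcard : Nat.card (M.map H.subtype) ≤ n := by
      rw [Subgroup.card_map_of_injective H.subtype_injective]
      have : Nat.card M < Nat.card H := lt_of_le_of_ne (Subgroup.card_le_card_group M)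
        fun he => hM.1 (Subgroup.eq_top_of_card_eq M he)
      omega
    have hxinv : (x⁻¹ ^ p) ^ p = 1 := by rw [inv_pow, inv_pow, hxp, inv_one]
    have h1 : ⁅x⁻¹, x'⁆ ^ p = 1 := ih _ hcard _ (inv_mem hxMP) _ hx'M hxinv
    have hcen : ∀ z : P, Commute z ⁅x⁻¹, x'⁆ := fun z =>
      Subgroup.mem_center_iff.mp (hc _ h1) z
    have h2 : (x' * x⁻¹) ^ p = 1 := by
      rw [PGroup.mul_pow_prime_eq hp.out hp2 (hcen _) (hcen _) h1, hx'def, conj_pow, inv_pow,
        Subgroup.mem_center_iff.mp (hc _ hxp) y, mul_inv_cancel_right, mul_inv_cancel]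
    have h3 : ⁅y, x⁆ = x' * x⁻¹ := by rw [commutatorElement_def]
    rw [← commutatorElement_inv, inv_pow, h3, h2, inv_one]

/-- The central elements of order dividing `p`. -/
def omegaCenter (p : ℕ) (P : Type*) [Group P] : Subgroup P where
  carrier := {x | x ∈ Subgroup.center P ∧ x ^ p = 1}
  one_mem' := ⟨one_mem _, one_pow _⟩
  mul_mem' {a b} ha hb := ⟨mul_mem ha.1 hb.1, by
    rw [Commute.mul_pow (Subgroup.mem_center_iff.mp hb.1 a), ha.2, hb.2, one_mul]⟩
  inv_mem' {a} ha := ⟨inv_mem ha.1, by rw [inv_pow, ha.2, inv_one]⟩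

instance omegaCenter_characteristic (P : Type*) [Group P] :
    (omegaCenter p P).Characteristic :=
  PGroup.characteristic_of_forall_mem fun φ x hx =>
    ⟨(PGroup.aut_mem_iff (H := Subgroup.center P) φ x).mpr hx.1, by
      rw [← map_pow, hx.2, map_one]⟩

theorem index_le_of_central_omega (hp2 : p ≠ 2) :
    ∀ (n : ℕ) (P : Type u) [Group P] [Finite P], Nat.card P ≤ n → IsPGroup p P →
      (∀ x : P, x ^ p = 1 → x ∈ Subgroup.center P) →
      ∀ k : ℕ, Nat.card {x : P // x ^ p = 1} ≤ p ^ k →
      ∀ K : Subgroup P, K.Normal → (∀ x : P, x ^ p ∈ K) → (∀ x y : P, ⁅x, y⁆ ∈ K) →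
        K.index ≤ p ^ k := by
  intro n
  induction n with
  | zero => intro P _ _ hn; exact absurd hn (Nat.not_le.mpr Nat.card_pos)
  | succ n ih =>
    intro P _ _ hn hP hc k hk K hKn hexp hcomm
    haveI := hKn
    by_cases hcase : ∀ x : P, x ^ p = 1 → x ∈ K
    · rcases eq_or_ne K ⊤ with rfl | hKtop
      · rw [Subgroup.index_top]; exact Nat.one_le_pow _ _ hp.out.pos
      haveI : Nontrivial P := by
        obtain ⟨x, hx⟩ : ∃ x : P, x ∉ K := by
          by_contra h; push Not at h; exact hKtop ((Subgroup.eq_top_iff' K).mpr h)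
        exact ⟨⟨x, 1, fun h => hx (h ▸ one_mem K)⟩⟩
      set E := omegaCenter p P with hE
      have hEK : E ≤ K := fun x hx => hcase x hx.2
      have hE0 : E ≠ ⊥ := by
        intro h
        obtain ⟨x, hx⟩ := exists_prime_orderOf_dvd_card' p (Isolated.prime_dvd_card hP)
        have hxp : x ^ p = 1 := hx ▸ pow_orderOf_eq_one x
        have : x ∈ E := ⟨hc x hxp, hxp⟩
        rw [h, Subgroup.mem_bot] at this
        rw [this, orderOf_one] at hx
        exact hp.out.ne_one hx.symm
      have hlt : Nat.card (P ⧸ E) ≤ n := by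
        have h1 := E.card_mul_index
        have h2 : 2 ≤ Nat.card E := by
          haveI := (Subgroup.nontrivial_iff_ne_bot E).mpr hE0
          exact Finite.one_lt_card
        rw [Subgroup.index_eq_card] at h1
        have h4 : 0 < Nat.card (P ⧸ E) := Nat.card_pos
        nlinarith [h1, h2, h4]
      have hcq : ∀ z : P ⧸ E, z ^ p = 1 → z ∈ Subgroup.center (P ⧸ E) := by
        intro z
        induction z using QuotientGroup.induction_on with
        | _ x =>
          intro hz
          rw [← QuotientGroup.mk_pow, QuotientGroup.eq_one_iff] at hz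
          refine Subgroup.mem_center_iff.mpr fun w => ?_
          induction w using QuotientGroup.induction_on with
          | _ y =>
            have h1 := comm_pow_eq_one hP hp2 hc (Nat.card P) ⊤ Subgroup.card_top.le
              y⁻¹ (Subgroup.mem_top _) x⁻¹ (Subgroup.mem_top _)
            have h2 : ⁅x⁻¹, y⁻¹⁆ ^ p = 1 :=
              comm_pow_eq_one hP hp2 hc (Nat.card P) ⊤ Subgroup.card_top.le
                x⁻¹ (Subgroup.mem_top _) y⁻¹ (Subgroup.mem_top _)
                (by rw [inv_pow, inv_pow, hz.2, inv_one])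
            rw [← QuotientGroup.mk_mul, ← QuotientGroup.mk_mul, QuotientGroup.eq]
            have e : (y * x)⁻¹ * (x * y) = ⁅x⁻¹, y⁻¹⁆ := by
              rw [commutatorElement_def]; group
            rw [e]
            exact ⟨hc _ h2, h2⟩
      have hkq : Nat.card {z : P ⧸ E // z ^ p = 1} ≤ p ^ k := by
        refine le_trans ?_ hk
        have hz : ∀ z : {z : P ⧸ E // z ^ p = 1}, (z.1.out ^ p) ∈ E := fun z => by
          have := z.2
          rw [← QuotientGroup.out_eq' z.1, ← QuotientGroup.mk_pow, QuotientGroup.eq_one_iff] at this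
          exact this
        refine Nat.card_le_card_of_injective
          (fun z => (⟨z.1.out ^ p, (hz z).2⟩ : {x : P // x ^ p = 1})) fun z w hzw => ?_
        have h : z.1.out ^ p = w.1.out ^ p := congrArg Subtype.val hzw
        apply Subtype.ext
        rw [← QuotientGroup.out_eq' z.1, ← QuotientGroup.out_eq' w.1, QuotientGroup.eq]
        set x := z.1.out
        set y := w.1.out
        have hcomm' : ⁅y, x⁻¹⁆ ^ p = 1 :=
          comm_pow_eq_one hP hp2 hc (Nat.card P) ⊤ Subgroup.card_top.le
            y (Subgroup.mem_top _) x⁻¹ (Subgroup.mem_top _) (hz w).2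
        have hcen : ∀ u : P, Commute u ⁅y, x⁻¹⁆ := fun u =>
          Subgroup.mem_center_iff.mp (hc _ hcomm') u
        have h2 : (x⁻¹ * y) ^ p = 1 := by
          rw [PGroup.mul_pow_prime_eq hp.out hp2 (hcen _) (hcen _) hcomm', inv_pow, h,
            inv_mul_cancel]
        exact ⟨hc _ h2, h2⟩
      have := ih (P ⧸ E) hlt (hP.to_quotient E) hcq k hkq (K.map (QuotientGroup.mk' E))
        (hKn.map _ (QuotientGroup.mk'_surjective E))
        (fun z => by
          induction z using QuotientGroup.induction_on with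
          | _ x => exact ⟨x ^ p, hexp x, by simp⟩)
        (fun z w => by
          induction z using QuotientGroup.induction_on with
          | _ x =>
            induction w using QuotientGroup.induction_on with
            | _ y => exact ⟨⁅x, y⁆, hcomm x y, by rw [map_commutatorElement]; rfl⟩)
      rwa [Subgroup.index_map_eq K (QuotientGroup.mk'_surjective E)
        (by rw [QuotientGroup.ker_mk']; exact hEK)] at this
    push Not at hcase
    obtain ⟨e, he, heK⟩ := hcase
    obtain ⟨Mq, hMq, heMq⟩ := PGroup.exists_isCoatom_not_mem (p := p) (G := P ⧸ K)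
      (fun a b => by
        induction a using QuotientGroup.induction_on with
        | _ x =>
          induction b using QuotientGroup.induction_on with
          | _ y =>
            rw [← QuotientGroup.mk_mul, ← QuotientGroup.mk_mul, QuotientGroup.eq]
            have e : (x * y)⁻¹ * (y * x) = ⁅y⁻¹, x⁻¹⁆ := by rw [commutatorElement_def]; group
            rw [e]; exact hcomm _ _)
      (fun a => by
        induction a using QuotientGroup.induction_on with
        | _ x => rw [← QuotientGroup.mk_pow, QuotientGroup.eq_one_iff]; exact hexp x)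
      (x := (e : P ⧸ K)) (fun h => heK ((QuotientGroup.eq_one_iff e).mp h))
    haveI := PGroup.isCoatom_normal (hP.to_quotient K) hMq
    set M := Mq.comap (QuotientGroup.mk' K) with hM
    have hMidx : M.index = p := by
      rw [hM, Subgroup.index_comap_of_surjective _ (QuotientGroup.mk'_surjective K)]
      exact PGroup.isCoatom_index (hP.to_quotient K) hMq
    have hKM : K ≤ M := fun x hx => by
      rw [hM, Subgroup.mem_comap, QuotientGroup.mk'_apply, (QuotientGroup.eq_one_iff x).mpr hx]
      exact one_mem _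
    have heM : e ∉ M := heMq
    set E := omegaCenter p P with hE
    have hlt : E ⊓ M < E := lt_of_le_of_ne inf_le_left fun h =>
      heM ((h.symm ▸ (⟨hc e he, he⟩ : e ∈ E) : e ∈ E ⊓ M).2)
    have hcardE : Nat.card E ≤ p ^ k := le_trans
      (Nat.card_le_card_of_injective (fun x : E => (⟨x.1, x.2.2⟩ : {x : P // x ^ p = 1}))
        fun a b h => Subtype.ext (congrArg Subtype.val h :)) hk
    have h1 := (PGroup.mul_card_le_of_lt hP hlt).trans hcardE
    obtain ⟨j, rfl⟩ : ∃ j, k = j + 1 := by
      rcases k with _ | j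
      · exfalso
        have : 2 ≤ p * Nat.card (E ⊓ M : Subgroup P) :=
          le_trans hp.out.two_le (Nat.le_mul_of_pos_right _ Nat.card_pos)
        rw [pow_zero] at h1
        omega
      · exact ⟨j, rfl⟩
    rw [pow_succ'] at h1 ⊢
    have h2 := Nat.le_of_mul_le_mul_left h1 hp.out.pos
    have hMn : Nat.card M ≤ n := by
      have := M.card_mul_index
      rw [hMidx] at this
      have h3 : 0 < Nat.card M := Nat.card_pos
      nlinarith [this, hp.out.two_le, h3]
    have := ih M hMn (hP.to_subgroup M)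
      (fun x hx => Subgroup.mem_center_iff.mpr fun y => Subtype.ext
        (Subgroup.mem_center_iff.mp (hc x (by simpa using congrArg Subtype.val hx)) y))
      j (le_trans (Nat.card_le_card_of_injective
        (fun x : {x : M // x ^ p = 1} =>
          (⟨x.1.1, ⟨⟨hc _ (by simpa using congrArg Subtype.val x.2),
            by simpa using congrArg Subtype.val x.2⟩, x.1.2⟩⟩ : (E ⊓ M : Subgroup P)))
        fun a b h => Subtype.ext (Subtype.ext (congrArg Subtype.val h :))) h2)
      (K.subgroupOf M) inferInstance (fun x => by simpa [Subgroup.mem_subgroupOf] using hexp x)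
      (fun x y => by
        rw [Subgroup.mem_subgroupOf, ← Subgroup.coe_subtype, map_commutatorElement]
        exact hcomm _ _)
    rw [← Subgroup.relIndex_mul_index hKM, hMidx, mul_comm]
    exact Nat.mul_le_mul le_rfl this

/-- An elementary abelian quotient of a rank two `p`-group containing every proper characteristic
subgroup in its kernel has order at most `p ^ 2`. -/
theorem index_le_sq_of_rank_two {P : Type u} [Group P] [Finite P] (hp2 : p ≠ 2)
    (hP : IsPGroup p P) (hr : Cfsg.PRankLE p 2 P) (K : Subgroup P) [K.Normal]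
    (hexp : ∀ x : P, x ^ p ∈ K) (hcomm : ∀ x y : P, ⁅x, y⁆ ∈ K)
    (hchar : ∀ N : Subgroup P, N.Characteristic → N ≠ ⊤ → N ≤ K) : K.index ≤ p ^ 2 := by
  by_cases hA : ∃ N : Subgroup P, N.Characteristic ∧ IsMulCommutative N ∧ (∀ x ∈ N, x ^ p = 1) ∧
      ¬ N ≤ Subgroup.center P
  · obtain ⟨N, hNc, hNab, hNexp, hNz⟩ := hA
    haveI := hNc
    have hCt : Subgroup.centralizer (N : Set P) ≠ ⊤ := fun h =>
      hNz (Subgroup.centralizer_eq_top_iff_subset.mp h)
    obtain ⟨a, ha⟩ := IsPGroup.iff_card.1 (hP.to_subgroup N)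
    have ha2 : a ≤ 2 := (Nat.pow_le_pow_iff_right hp.out.one_lt).1 (ha ▸ hr N hNab hNexp)
    refine le_trans (Nat.le_of_dvd ?_ (Subgroup.index_dvd_of_le (hchar _ inferInstance hCt))) ?_
    · exact Nat.pos_of_ne_zero Subgroup.index_ne_zero_of_finite
    refine (PGroup.index_centralizer_le hP a N inferInstance ha).trans
      (Nat.pow_le_pow_right hp.out.pos ?_)
    interval_cases a <;> norm_num
  push Not at hA
  set Z := omegaCenter p P with hZ
  have hZab : IsMulCommutative Z :=
    ⟨⟨fun a b => Subtype.ext (Subgroup.mem_center_iff.mp b.2.1 a.1)⟩⟩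
  have hZexp : ∀ x ∈ Z, x ^ p = 1 := fun x hx => hx.2
  have hZcard := hr Z hZab hZexp
  by_cases hall : ∀ x : P, x ^ p = 1 → x ∈ Subgroup.center P
  · refine index_le_of_central_omega hp2 _ P le_rfl hP hall 2 (le_trans ?_ hZcard) K
      inferInstance hexp hcomm
    exact Nat.card_le_card_of_injective (fun x => (⟨x.1, hall _ x.2, x.2⟩ : Z))
      fun a b h => Subtype.ext (congrArg Subtype.val h :)
  push Not at hall
  obtain ⟨x, hxp, hxz⟩ := hall
  haveI : Nontrivial P := ⟨⟨x, 1, fun h => hxz (h ▸ one_mem _)⟩⟩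
  -- `Z` has order `p`
  have hZp : Nat.card Z = p := by
    have hlt : Z < Z ⊔ Subgroup.zpowers x := lt_of_le_of_ne le_sup_left fun h =>
      hxz ((h.symm ▸ Subgroup.mem_sup_right (Subgroup.mem_zpowers x) : x ∈ Z).1)
    have hsub : Z ⊔ Subgroup.zpowers x ≤ Subgroup.centralizer ({x} : Set P) := by
      refine sup_le (fun z hz => ?_) (Subgroup.zpowers_le.mpr ?_)
      · rw [Subgroup.mem_centralizer_singleton_iff]
        exact (Subgroup.mem_center_iff.mp hz.1 x).symm
      · rw [Subgroup.mem_centralizer_singleton_iff]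
    have hab : ∀ a ∈ Z ⊔ Subgroup.zpowers x, ∀ b ∈ Z ⊔ Subgroup.zpowers x,
        a * b = b * a ∧ b ^ p = 1 := by
      intro a ha b hb
      obtain ⟨z1, hz1, u1, hu1, rfl⟩ := Subgroup.mem_sup_of_normal_left.mp ha
      obtain ⟨z2, hz2, u2, hu2, rfl⟩ := Subgroup.mem_sup_of_normal_left.mp hb
      obtain ⟨i, rfl⟩ := Subgroup.mem_zpowers_iff.mp hu1
      obtain ⟨j, rfl⟩ := Subgroup.mem_zpowers_iff.mp hu2
      have c1 : ∀ g : P, Commute g z1 := fun g => Subgroup.mem_center_iff.mp hz1.1 g
      have c2 : ∀ g : P, Commute g z2 := fun g => Subgroup.mem_center_iff.mp hz2.1 g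
      refine ⟨?_, ?_⟩
      · exact (Commute.mul_left (Commute.mul_right (c2 z1) (c1 _).symm)
          (Commute.mul_right (c2 _) ((Commute.refl x).zpow_zpow i j))).eq
      · rw [Commute.mul_pow (c2 _).symm, hz2.2, one_mul, ← zpow_natCast (x ^ j) p,
          ← zpow_mul, mul_comm, zpow_mul, zpow_natCast, hxp, one_zpow]
    have h := (PGroup.mul_card_le_of_lt hP hlt).trans
      (hr _ ⟨⟨fun a b => Subtype.ext (hab _ a.2 _ b.2).1⟩⟩ fun b hb => (hab b hb b hb).2)
    rw [pow_two] at h
    have h' := Nat.le_of_mul_le_mul_left h hp.out.pos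
    haveI : Nontrivial Z := by
      obtain ⟨z, hz0, hzp, hz1⟩ : ∃ z : P, z ≠ 1 ∧ z ^ p = 1 ∧ z ∈ Subgroup.center P := by
        haveI := hP.center_nontrivial
        obtain ⟨z, hz⟩ := exists_prime_orderOf_dvd_card' p
          (Isolated.prime_dvd_card (hP.to_subgroup (Subgroup.center P)))
        refine ⟨z.1, fun h => hp.out.ne_one ?_, ?_, z.2⟩
        · rw [← hz, OneMemClass.coe_eq_one.mp h, orderOf_one]
        · rw [← hz, ← Subgroup.coe_pow, pow_orderOf_eq_one, Subgroup.coe_one]
      exact ⟨⟨⟨z, hz1, hzp⟩, 1, fun h => hz0 (congrArg Subtype.val h)⟩⟩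
    obtain ⟨m, hm, hmc⟩ := (hP.to_subgroup Z).nontrivial_iff_card.mp inferInstance
    exact le_antisymm h' (hmc ▸ Nat.le_self_pow hm.ne' p)
  -- critical subgroup
  obtain ⟨C, hC⟩ := PGroup.exists_critical hP
  haveI := hC.char
  set T := Subgroup.closure {y : P | y ∈ C ∧ y ^ p = 1} with hTdef
  have hTC : T ≤ C := (Subgroup.closure_le _).2 fun y hy => hy.1
  have hTexp : ∀ y ∈ T, y ^ p = 1 := by
    intro y hy
    induction hy using Subgroup.closure_induction with
    | mem y hy => exact hy.2
    | one => exact one_pow _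
    | mul a b ha hb iha ihb =>
      have hc := hC.comm_mem b (hTC hb) a
      have h1 : Commute a ⁅b, a⁆ := Subgroup.mem_centralizer_iff.1 hc.2 a (hTC ha)
      have h2 : Commute b ⁅b, a⁆ := Subgroup.mem_centralizer_iff.1 hc.2 b (hTC hb)
      rw [PGroup.mul_pow_prime_eq hp.out hp2 h1 h2, iha, ihb, one_mul]
      rw [← PGroup.commutator_pow_left h2, ihb, commutatorElement_one_left]
    | inv a _ ih => rw [inv_pow, ih, inv_one]
  haveI hTchar : T.Characteristic := PGroup.characteristic_of_forall_mem fun φ y hy => by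
    induction hy using Subgroup.closure_induction with
    | mem y hy =>
      exact Subgroup.subset_closure ⟨(PGroup.aut_mem_iff φ y).2 hy.1,
        by rw [← map_pow, hy.2, map_one]⟩
    | one => rw [map_one]; exact one_mem _
    | mul a b _ _ ha hb => rw [map_mul]; exact mul_mem ha hb
    | inv a _ ha => rw [map_inv]; exact inv_mem ha
  by_cases hTab : IsMulCommutative T
  · -- `C` is cyclic
    have hTz : T ≤ Z := fun y hy => ⟨hA T hTchar hTab hTexp hy, hTexp y hy⟩
    haveI hCcyc : IsCyclic C := Isolated.isCyclic_of_unique hp2 _ C (hP.to_subgroup C) le_rfl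
      fun a b ha hap hbp => by
        have haT : (a : P) ∈ Z := hTz (Subgroup.subset_closure ⟨a.2, by
          rw [← Subgroup.coe_pow, hap, Subgroup.coe_one]⟩)
        have hbT : (b : P) ∈ Z := hTz (Subgroup.subset_closure ⟨b.2, by
          rw [← Subgroup.coe_pow, hbp, Subgroup.coe_one]⟩)
        have heq : Subgroup.zpowers (a : P) = Z :=
          PGroup.eq_of_le_of_card_le (Subgroup.zpowers_le.mpr haT) (by
            rw [hZp, Nat.card_zpowers, orderOf_eq_prime
              (by rw [← Subgroup.coe_pow, hap, Subgroup.coe_one]) (by simpa using ha)])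
        obtain ⟨i, hi⟩ := Subgroup.mem_zpowers_iff.mp (heq.symm ▸ hbT)
        exact Subgroup.mem_zpowers_iff.mpr ⟨i, Subtype.ext (by simpa using hi)⟩
    have hCtop : C ≠ ⊤ := fun h =>
      hxz (hTz (Subgroup.subset_closure ⟨h ▸ Subgroup.mem_top x, hxp⟩)).1
    have hCK : C ≤ K := hchar C inferInstance hCtop
    obtain ⟨c, hc⟩ := IsPGroup.iff_card.1 (hP.to_subgroup C)
    haveI : IsCyclic (MulAut C) := by
      haveI : IsCyclic (ZMod (Nat.card C))ˣ := by
        rw [hc]; exact ZMod.isCyclic_units_of_prime_pow p hp.out hp2 c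
      exact isCyclic_of_surjective (IsCyclic.mulAutMulEquiv C).symm
        (IsCyclic.mulAutMulEquiv C).symm.surjective
    set f : P →* MulAut C := MulAut.conjNormal with hf
    obtain ⟨⟨_, g0, rfl⟩, hg⟩ := IsCyclic.exists_generator (α := f.range)
    have hker : f.ker ≤ K := fun y hy => hCK (hC.self_centralizing
      (Subgroup.mem_centralizer_iff.mpr fun c hc => by
        have h1 : (MulAut.conjNormal y : MulAut C) ⟨c, hc⟩ = ⟨c, hc⟩ := by
          have := MonoidHom.mem_ker.mp hy
          rw [hf] at this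
          rw [this]; rfl
        have h2 : y * c * y⁻¹ = c := by
          simpa [MulAut.conjNormal_apply] using congrArg Subtype.val h1
        exact (mul_inv_eq_iff_eq_mul.mp h2).symm))
    have htop : Subgroup.zpowers (g0 : P ⧸ K) = ⊤ := by
      rw [Subgroup.eq_top_iff']
      intro q
      induction q using QuotientGroup.induction_on with
      | _ y =>
        obtain ⟨i, hi⟩ := Subgroup.mem_zpowers_iff.mp (hg ⟨f y, y, rfl⟩)
        have hi' : f g0 ^ i = f y := by simpa using congrArg Subtype.val hi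
        refine Subgroup.mem_zpowers_iff.mpr ⟨i, ?_⟩
        rw [← QuotientGroup.mk_zpow, QuotientGroup.eq]
        exact hker (MonoidHom.mem_ker.mpr (by
          rw [map_mul, map_inv, map_zpow, hi', inv_mul_cancel]))
    rw [Subgroup.index_eq_card, ← Subgroup.card_top, ← htop, Nat.card_zpowers]
    refine le_trans (Nat.le_of_dvd hp.out.pos (orderOf_dvd_of_pow_eq_one ?_))
      (Nat.le_self_pow two_ne_zero p)
    rw [← QuotientGroup.mk_pow, QuotientGroup.eq_one_iff]
    exact hexp g0
  -- `T` is nonabelian of order at most `p ^ 3`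
  obtain ⟨a, haT, b, hbT, hab⟩ : ∃ a ∈ T, ∃ b ∈ T, a * b ≠ b * a := by
    by_contra h
    push Not at h
    exact hTab ⟨⟨fun a b => Subtype.ext (h _ a.2 _ b.2)⟩⟩
  set W := T ⊓ Subgroup.centralizer (T : Set P) with hW
  have hWab : IsMulCommutative W :=
    ⟨⟨fun u v => Subtype.ext (Subgroup.mem_centralizer_iff.mp v.2.2 u.1 u.2.1)⟩⟩
  have hWz : W ≤ Z := fun y hy => ⟨hA W inferInstance hWab (fun y hy => hTexp y hy.1) hy,
    hTexp y hy.1⟩
  have hcommW : ∀ t ∈ T, ∀ g : P, ⁅t, g⁆ ∈ W := fun t ht g => by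
    have hc := hC.comm_mem t (hTC ht) g
    refine ⟨Subgroup.subset_closure ⟨hc.1, ?_⟩, Subgroup.centralizer_le hTC hc.2⟩
    rw [← PGroup.commutator_pow_left (Subgroup.mem_centralizer_iff.1 hc.2 t (hTC ht)), hTexp t ht,
      commutatorElement_one_left]
  set z := ⁅a, b⁆ with hzdef
  have hz1 : z ≠ 1 := fun h => hab (commutatorElement_eq_one_iff_mul_comm.mp h)
  have hzW : z ∈ W := hcommW a haT b
  have hWeq : Subgroup.zpowers z = Z :=
    PGroup.eq_of_le_of_card_le (Subgroup.zpowers_le.mpr (hWz hzW)) (by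
      rw [hZp, Nat.card_zpowers, orderOf_eq_prime (hWz hzW).2 hz1])
  have hcen : ∀ t ∈ T, ∀ g u : P, Commute u ⁅t, g⁆ := fun t ht g u =>
    Subgroup.mem_center_iff.mp (hWz (hcommW t ht g)).1 u
  -- `T` is generated by `a`, `b` and `W`
  have hTr : Cfsg.PRankLE p 2 T := fun A hAc hAp => by
    haveI := hAc
    rw [← Subgroup.card_map_of_injective T.subtype_injective]
    refine hr _ (Subgroup.map_isMulCommutative A T.subtype) ?_
    rintro _ ⟨y, hy, rfl⟩
    rw [← map_pow, hAp y hy, map_one]
  have hT3 : Nat.card T ≤ p ^ 3 :=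
    (RankTwo.card_le_cube (fun y : T => Subtype.ext (by simpa using hTexp y y.2)) hTr).1
  have hWT : W ≤ T := inf_le_left
  have hWn : W.Normal := inferInstance
  have hzc : ∀ u : P, Commute u z := fun u => Subgroup.mem_center_iff.mp (hWz hzW).1 u
  set A1 := W ⊔ Subgroup.zpowers a with hA1
  set A2 := A1 ⊔ Subgroup.zpowers b with hA2
  have hA1T : A1 ≤ T := sup_le hWT (Subgroup.zpowers_le.mpr haT)
  have hA2T : A2 ≤ T := sup_le hA1T (Subgroup.zpowers_le.mpr hbT)
  have hA1c : A1 ≤ Subgroup.centralizer ({a} : Set P) := by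
    refine sup_le (fun w hw => ?_) (Subgroup.zpowers_le.mpr ?_)
    · rw [Subgroup.mem_centralizer_singleton_iff]
      exact (Subgroup.mem_center_iff.mp (hWz hw).1 a).symm
    · rw [Subgroup.mem_centralizer_singleton_iff]
  have haW : a ∉ W := fun h => hab (Subgroup.mem_center_iff.mp (hWz h).1 b).symm
  have hbA1 : b ∉ A1 := fun h =>
    hab (Subgroup.mem_centralizer_singleton_iff.mp (hA1c h)).symm
  have hA2eq : A2 = T := by
    refine PGroup.eq_of_le_of_card_le hA2T (hT3.trans ?_)
    have h1 := PGroup.mul_card_le_of_lt hP (lt_of_le_of_ne le_sup_left fun h =>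
      haW (h.symm ▸ Subgroup.mem_sup_right (Subgroup.mem_zpowers a) : a ∈ W) : W < A1)
    have h2 := PGroup.mul_card_le_of_lt hP (lt_of_le_of_ne le_sup_left fun h =>
      hbA1 (h.symm ▸ Subgroup.mem_sup_right (Subgroup.mem_zpowers b) : b ∈ A1) : A1 < A2)
    have h3 : p ≤ Nat.card W := by
      calc p = Nat.card (Subgroup.zpowers z) := by rw [hWeq, hZp]
        _ ≤ Nat.card W := Subgroup.card_le_of_le (Subgroup.zpowers_le.mpr hzW)
    calc p ^ 3 = p * (p * p) := by ring
      _ ≤ p * (p * Nat.card W) := by gcongr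
      _ ≤ p * Nat.card A1 := by gcongr
      _ ≤ Nat.card A2 := h2
  have hcent : ∀ u : P, Commute u a → Commute u b → u ∈ Subgroup.centralizer (T : Set P) := by
    intro u hua hub
    have : T ≤ Subgroup.centralizer ({u} : Set P) := by
      rw [← hA2eq]
      refine sup_le (sup_le (fun w hw => ?_) (Subgroup.zpowers_le.mpr ?_))
        (Subgroup.zpowers_le.mpr ?_)
      · rw [Subgroup.mem_centralizer_singleton_iff]
        exact (Subgroup.mem_center_iff.mp (hWz hw).1 u).symm
      · rw [Subgroup.mem_centralizer_singleton_iff]; exact hua.symm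
      · rw [Subgroup.mem_centralizer_singleton_iff]; exact hub.symm
    exact Subgroup.mem_centralizer_iff.mpr fun t ht =>
      Subgroup.mem_centralizer_singleton_iff.mp (this ht)
  have hfull : T ⊔ Subgroup.centralizer (T : Set P) = ⊤ := by
    rw [Subgroup.eq_top_iff']
    intro g
    obtain ⟨i, hi⟩ := Subgroup.mem_zpowers_iff.mp (hWeq.symm ▸ hWz (hcommW a haT g))
    obtain ⟨j, hj⟩ := Subgroup.mem_zpowers_iff.mp (hWeq.symm ▸ hWz (hcommW b hbT g))
    set t := b ^ i * a ^ (-j) with ht
    have htT : t ∈ T := mul_mem (zpow_mem hbT i) (zpow_mem haT _)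
    have hbi : ∀ i : ℤ, b ^ i * a * (b ^ i)⁻¹ = z ^ (-i) * a := by
      intro i
      have h1 : b * a * b⁻¹ = z⁻¹ * a := by
        rw [hzdef, commutatorElement_def]; group
      have h2 : SemiconjBy b a (z⁻¹ * a) := by
        show b * a = z⁻¹ * a * b
        rw [← h1]; group
      have h3 : ∀ k : ℕ, b ^ k * a * (b ^ k)⁻¹ = z ^ (-(k : ℤ)) * a := by
        intro k
        induction k with
        | zero => simp
        | succ k ih =>
          rw [pow_succ']
          calc b * b ^ k * a * (b * b ^ k)⁻¹ = b * (b ^ k * a * (b ^ k)⁻¹) * b⁻¹ := by group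
            _ = b * z ^ (-(k : ℤ)) * a * b⁻¹ := by rw [ih]; group
            _ = z ^ (-(k : ℤ)) * (b * a * b⁻¹) := by
              rw [((hzc b).zpow_right _).eq]; group
            _ = _ := by rw [h1]; push_cast; group
      rcases Int.eq_nat_or_neg i with ⟨k, rfl | rfl⟩
      · rw [zpow_natCast]; exact h3 k
      · have h := h3 k
        rw [mul_inv_eq_iff_eq_mul, mul_assoc] at h
        rw [zpow_neg, zpow_natCast, inv_inv, neg_neg]
        calc (b ^ k)⁻¹ * a * b ^ k
            = z ^ (k : ℤ) * ((b ^ k)⁻¹ * (z ^ (-(k : ℤ)) * (a * b ^ k))) := by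
              rw [← mul_assoc (b ^ k)⁻¹, ((hzc _).zpow_right _).eq]; group
          _ = _ := by rw [← h]; group
    have haj : ∀ j : ℤ, a ^ j * b * (a ^ j)⁻¹ = z ^ j * b := by
      intro j
      have h1 : a * b * a⁻¹ = z * b := by
        rw [hzdef, commutatorElement_def]; group
      have h3 : ∀ k : ℕ, a ^ k * b * (a ^ k)⁻¹ = z ^ (k : ℤ) * b := by
        intro k
        induction k with
        | zero => simp
        | succ k ih =>
          rw [pow_succ']
          calc a * a ^ k * b * (a * a ^ k)⁻¹ = a * (a ^ k * b * (a ^ k)⁻¹) * a⁻¹ := by group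
            _ = a * z ^ (k : ℤ) * b * a⁻¹ := by rw [ih]; group
            _ = z ^ (k : ℤ) * (a * b * a⁻¹) := by
              rw [((hzc a).zpow_right _).eq]; group
            _ = _ := by rw [h1]; push_cast; group
      rcases Int.eq_nat_or_neg j with ⟨k, rfl | rfl⟩
      · rw [zpow_natCast]; exact h3 k
      · have h := h3 k
        rw [mul_inv_eq_iff_eq_mul, mul_assoc] at h
        rw [zpow_neg, zpow_natCast, inv_inv]
        calc (a ^ k)⁻¹ * b * a ^ k
            = z ^ (-(k : ℤ)) * ((a ^ k)⁻¹ * (z ^ (k : ℤ) * (b * a ^ k))) := by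
              rw [← mul_assoc (a ^ k)⁻¹, ((hzc _).zpow_right _).eq]; group
          _ = _ := by rw [← h]; group
    have hga : g * a * g⁻¹ = z ^ (-i) * a := by
      have e : g * a * g⁻¹ = ⁅g, a⁆ * a := by rw [commutatorElement_def]; group
      rw [e, ← commutatorElement_inv, ← hi, zpow_neg]
    have hgb : g * b * g⁻¹ = z ^ (-j) * b := by
      have e : g * b * g⁻¹ = ⁅g, b⁆ * b := by rw [commutatorElement_def]; group
      rw [e, ← commutatorElement_inv, ← hj, zpow_neg]
    have hta : t * a * t⁻¹ = z ^ (-i) * a := by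
      rw [← hbi i, ht]; group
    have htb : t * b * t⁻¹ = z ^ (-j) * b := by
      calc t * b * t⁻¹ = b ^ i * (a ^ (-j) * b * (a ^ (-j))⁻¹) * (b ^ i)⁻¹ := by rw [ht]; group
        _ = b ^ i * z ^ (-j) * b * (b ^ i)⁻¹ := by rw [haj]; group
        _ = z ^ (-j) * b := by rw [((hzc _).zpow_right _).eq]; group
    have hmem : t⁻¹ * g ∈ Subgroup.centralizer (T : Set P) := by
      refine hcent _ ?_ ?_
      · rw [Commute, SemiconjBy, ← mul_inv_eq_iff_eq_mul]
        calc t⁻¹ * g * a * (t⁻¹ * g)⁻¹ = t⁻¹ * (g * a * g⁻¹) * t := by group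
          _ = t⁻¹ * (t * a * t⁻¹) * t := by rw [hga, hta]
          _ = a := by group
      · rw [Commute, SemiconjBy, ← mul_inv_eq_iff_eq_mul]
        calc t⁻¹ * g * b * (t⁻¹ * g)⁻¹ = t⁻¹ * (g * b * g⁻¹) * t := by group
          _ = t⁻¹ * (t * b * t⁻¹) * t := by rw [hgb, htb]
          _ = b := by group
    have := Subgroup.mul_mem_sup htT hmem
    rwa [mul_inv_cancel_left] at this
  by_cases hTt : T = ⊤
  · rcases eq_or_ne K ⊥ with rfl | hK0
    · refine absurd ?_ hab
      exact commutatorElement_eq_one_iff_mul_comm.mp (Subgroup.mem_bot.mp (hcomm a b))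
    rw [hTt, Subgroup.card_top] at hT3
    haveI := (Subgroup.nontrivial_iff_ne_bot K).mpr hK0
    obtain ⟨m, hm, hmc⟩ := (hP.to_subgroup K).nontrivial_iff_card.mp inferInstance
    have h1 : p * K.index ≤ p * p ^ 2 := by
      calc p * K.index ≤ Nat.card K * K.index :=
            Nat.mul_le_mul_right _ (hmc ▸ Nat.le_self_pow hm.ne' p)
        _ = Nat.card P := K.card_mul_index
        _ ≤ p * p ^ 2 := by rw [← pow_succ']; exact hT3
    exact Nat.le_of_mul_le_mul_left h1 hp.out.pos
  have hCT : Subgroup.centralizer (T : Set P) ≠ ⊤ := fun h =>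
    hab (Subgroup.mem_centralizer_iff.mp (h ▸ Subgroup.mem_top b) a haT)
  have hKt : K = ⊤ := top_le_iff.mp
    (hfull ▸ sup_le (hchar T hTchar hTt) (hchar _ inferInstance hCT))
  rw [hKt, Subgroup.index_top]
  exact Nat.one_le_pow _ _ hp.out.pos

end Cfsg.Agent.RankTwoChief
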